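import Mathlib

set_option linter.style.haveILetI false
set_option linter.unusedVariables false
set_option linter.unusedSectionVars false
set_option autoImplicit false
set_option backward.isDefEq.respectTransparency.types false
set_option synthInstance.maxHeartbeats 400000
set_option maxHeartbeats 1600000

universe u

/-! helper7: a filtered finiteness lemma over a polynomial ring over a field, via the Rees
embedding `k[x₀,…,xₙ] → k[x₁,…,xₙ][t]`. -/

open MvPolynomial

namespace Groth.Agent.Helper7.ValFP

section Rees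

variable (k : Type u) [Field k] (n : ℕ)

/-- the Rees embedding `k[x₀,…,xₙ] → k[x₁,…,xₙ][t]`, `x₀ ↦ t`, `xᵢ₊₁ ↦ xᵢ t`. -/
noncomputable def rho : MvPolynomial (Fin (n + 1)) k →ₐ[k] Polynomial (MvPolynomial (Fin n) k) :=
  MvPolynomial.aeval
    (Fin.cases (Polynomial.X) (fun i => Polynomial.C (MvPolynomial.X i) * Polynomial.X))

theorem rho_X_zero : rho k n (X 0) = Polynomial.X := by
  rw [rho, aeval_X]; rfl

theorem rho_X_succ (i : Fin n) :
    rho k n (X i.succ) = Polynomial.C (X i) * Polynomial.X := by
  rw [rho, aeval_X]; rfl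

theorem rho_C (c : k) : rho k n (C c) = Polynomial.C (C c) := by
  rw [rho, aeval_C, Polynomial.algebraMap_apply, MvPolynomial.algebraMap_eq]

theorem X_mem_range : (Polynomial.X : Polynomial (MvPolynomial (Fin n) k)) ∈ (rho k n).range :=
  (AlgHom.mem_range _).mpr ⟨X 0, rho_X_zero k n⟩

theorem CX_mem_range (i : Fin n) :
    Polynomial.C (X i : MvPolynomial (Fin n) k) * Polynomial.X ∈ (rho k n).range :=
  (AlgHom.mem_range _).mpr ⟨X i.succ, rho_X_succ k n i⟩

theorem CC_mem_range (c : k) :
    Polynomial.C (C c : MvPolynomial (Fin n) k) ∈ (rho k n).range :=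
  (AlgHom.mem_range _).mpr ⟨C c, rho_C k n c⟩

theorem monomial_mem (α : Fin n →₀ ℕ) : ∀ d, (α.sum fun _ e => e) ≤ d →
    Polynomial.C (monomial α (1 : k)) * Polynomial.X ^ d ∈ (rho k n).range := by
  induction α using Finsupp.induction_linear with
  | zero =>
    intro d _
    have h1 : (monomial (0 : Fin n →₀ ℕ) (1 : k)) = 1 := rfl
    rw [h1, map_one, one_mul]
    exact Subalgebra.pow_mem _ (X_mem_range k n) d
  | add f g hf hg =>
    intro d hd
    rw [Finsupp.sum_add_index' (fun _ => rfl) (fun _ _ _ => rfl)] at hd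
    have h1 := hf (f.sum fun _ e => e) le_rfl
    have h2 := hg (d - f.sum fun _ e => e) (by omega)
    have h3 : monomial (f + g) (1 : k) = monomial f 1 * monomial g 1 := by
      rw [monomial_mul, one_mul]
    have h4 : d = (f.sum fun _ e => e) + (d - f.sum fun _ e => e) := by omega
    have h5 : Polynomial.C (monomial (f + g) (1 : k)) * Polynomial.X ^ d =
        (Polynomial.C (monomial f (1 : k)) * Polynomial.X ^ (f.sum fun _ e => e)) *
          (Polynomial.C (monomial g (1 : k)) * Polynomial.X ^ (d - f.sum fun _ e => e)) := by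
      rw [h3, map_mul]
      conv_lhs => rw [h4, pow_add]
      ring
    rw [h5]
    exact Subalgebra.mul_mem _ h1 h2
  | single i b =>
    intro d hd
    rw [Finsupp.sum_single_index rfl] at hd
    have h1 : monomial (Finsupp.single i b) (1 : k) = X i ^ b := (X_pow_eq_monomial).symm
    have h2 : Polynomial.C ((X i : MvPolynomial (Fin n) k) ^ b) * Polynomial.X ^ d =
        (Polynomial.C (X i : MvPolynomial (Fin n) k) * Polynomial.X) ^ b *
          Polynomial.X ^ (d - b) := by
      rw [mul_pow, map_pow, mul_assoc, ← pow_add, Nat.add_sub_cancel' hd]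
    rw [h1, h2]
    exact Subalgebra.mul_mem _ (Subalgebra.pow_mem _ (CX_mem_range k n i) b)
      (Subalgebra.pow_mem _ (X_mem_range k n) _)

theorem C_mul_X_pow_mem_range (d : ℕ) (q : MvPolynomial (Fin n) k) (hq : q.totalDegree ≤ d) :
    Polynomial.C q * Polynomial.X ^ d ∈ (rho k n).range := by
  classical
  have h1 : Polynomial.C q * Polynomial.X ^ d =
      ∑ α ∈ q.support, Polynomial.C (monomial α (coeff α q)) * Polynomial.X ^ d := by
    conv_lhs => rw [← MvPolynomial.support_sum_monomial_coeff q]
    rw [map_sum, Finset.sum_mul]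
  rw [h1]
  refine Subalgebra.sum_mem _ (fun α hα => ?_)
  have hαd : (α.sum fun _ e => e) ≤ d := le_trans (MvPolynomial.le_totalDegree hα) hq
  have h2 : monomial α (coeff α q) = C (coeff α q) * monomial α (1 : k) := by
    rw [C_mul_monomial, mul_one]
  rw [h2, map_mul, mul_assoc]
  exact Subalgebra.mul_mem _ (CC_mem_range k n _) (monomial_mem k n α d hαd)

end Rees

section LemmaN

variable {k : Type u} [Field k] {n r : ℕ}

/-- multiplication by `X i` on vectors of polynomials -/
noncomputable def mulX (i : Fin n) :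
    (Fin r → MvPolynomial (Fin n) k) →ₗ[k] (Fin r → MvPolynomial (Fin n) k) :=
  (LinearMap.mulLeft k (X i : MvPolynomial (Fin n) k)).compLeft (Fin r)

theorem mulX_apply (i : Fin n) (w : Fin r → MvPolynomial (Fin n) k) (j : Fin r) :
    mulX i w j = X i * w j := rfl

variable (k n r) in
/-- vectors of polynomials in `t` over `k[x₁,…,xₙ]`, as a module over `k[x₀,…,xₙ]`. -/
def RE : Type u := Fin r → Polynomial (MvPolynomial (Fin n) k)

noncomputable instance : AddCommGroup (RE k n r) :=
  inferInstanceAs (AddCommGroup (Fin r → Polynomial (MvPolynomial (Fin n) k)))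

noncomputable instance : Module (MvPolynomial (Fin (n + 1)) k) (RE k n r) :=
  Module.compHom (Fin r → Polynomial (MvPolynomial (Fin n) k)) (rho k n).toRingHom

theorem RE.smul_apply (a : MvPolynomial (Fin (n + 1)) k) (Y : RE k n r) (j : Fin r) :
    (a • Y) j = rho k n a * Y j := rfl

theorem RE.add_apply (Y Z : RE k n r) (j : Fin r) : (Y + Z) j = Y j + Z j := rfl

theorem RE.zero_apply (j : Fin r) : (0 : RE k n r) j = 0 := rfl

/-- the standard basis vectors -/
noncomputable def eRE (j : Fin r) : RE k n r :=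
  (Pi.single j 1 : Fin r → Polynomial (MvPolynomial (Fin n) k))

theorem eRE_same (j : Fin r) : (eRE j : RE k n r) j = 1 := by
  show (Pi.single j 1 : Fin r → Polynomial (MvPolynomial (Fin n) k)) j = 1
  rw [Pi.single_eq_same]

theorem eRE_ne {j j' : Fin r} (h : j' ≠ j) : (eRE j : RE k n r) j' = 0 := by
  show (Pi.single j 1 : Fin r → Polynomial (MvPolynomial (Fin n) k)) j' = 0
  rw [Pi.single_eq_of_ne h]

/-- evaluation at a coordinate -/
def evRE (j : Fin r) : RE k n r →+ Polynomial (MvPolynomial (Fin n) k) where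
  toFun Y := Y j
  map_zero' := rfl
  map_add' _ _ := rfl

/-- the vector of `t^d`-coefficients -/
noncomputable def coeffv (d : ℕ) (Y : RE k n r) : Fin r → MvPolynomial (Fin n) k :=
  fun j => (Y j).coeff d

theorem coeffv_add (d : ℕ) (Y Z : RE k n r) : coeffv d (Y + Z) = coeffv d Y + coeffv d Z := by
  funext j
  simp only [coeffv, RE.add_apply, Polynomial.coeff_add, Pi.add_apply]

theorem coeffv_zero (d : ℕ) : coeffv d (0 : RE k n r) = 0 := by
  funext j
  simp only [coeffv, RE.zero_apply, Polynomial.coeff_zero, Pi.zero_apply]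

theorem coeffv_C (d : ℕ) (c : k) (Y : RE k n r) :
    coeffv d ((C c : MvPolynomial (Fin (n + 1)) k) • Y) = c • coeffv d Y := by
  funext j
  simp only [coeffv, RE.smul_apply, rho_C, Polynomial.coeff_C_mul, Pi.smul_apply]
  rw [MvPolynomial.C_mul']

theorem coeffv_X0_succ (d : ℕ) (Y : RE k n r) :
    coeffv (d + 1) ((X 0 : MvPolynomial (Fin (n + 1)) k) • Y) = coeffv d Y := by
  funext j
  simp only [coeffv, RE.smul_apply, rho_X_zero, Polynomial.coeff_X_mul]

theorem coeffv_X0_zero (Y : RE k n r) :
    coeffv 0 ((X 0 : MvPolynomial (Fin (n + 1)) k) • Y) = 0 := by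
  funext j
  simp only [coeffv, RE.smul_apply, rho_X_zero, Polynomial.coeff_X_mul_zero, Pi.zero_apply]

theorem coeffv_Xs_succ (d : ℕ) (i : Fin n) (Y : RE k n r) :
    coeffv (d + 1) ((X i.succ : MvPolynomial (Fin (n + 1)) k) • Y) = mulX i (coeffv d Y) := by
  funext j
  simp only [coeffv, RE.smul_apply, rho_X_succ, mulX_apply]
  rw [mul_assoc, Polynomial.coeff_C_mul, Polynomial.coeff_X_mul]

theorem coeffv_Xs_zero (i : Fin n) (Y : RE k n r) :
    coeffv 0 ((X i.succ : MvPolynomial (Fin (n + 1)) k) • Y) = 0 := by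
  funext j
  simp only [coeffv, RE.smul_apply, rho_X_succ, Pi.zero_apply]
  rw [mul_assoc, Polynomial.coeff_C_mul, Polynomial.coeff_X_mul_zero, mul_zero]

variable (W : ℕ → Submodule k (Fin r → MvPolynomial (Fin n) k))
  (hmono : ∀ d, W d ≤ W (d + 1))
  (hX : ∀ d i, (W d).map (mulX i) ≤ W (d + 1))

include hmono hX in
theorem smul_mem_aux (a : MvPolynomial (Fin (n + 1)) k) :
    ∀ Y : RE k n r, (∀ d, coeffv d Y ∈ W d) → ∀ d, coeffv d (a • Y) ∈ W d := by
  induction a using MvPolynomial.induction_on with
  | C c =>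
    intro Y hY d
    rw [coeffv_C]
    exact (W d).smul_mem c (hY d)
  | add p q hp hq =>
    intro Y hY d
    rw [add_smul, coeffv_add]
    exact add_mem (hp Y hY d) (hq Y hY d)
  | mul_X p l hp =>
    intro Y hY
    rw [mul_smul]
    apply hp
    intro d
    rcases Fin.eq_zero_or_eq_succ l with rfl | ⟨i, rfl⟩
    · cases d with
      | zero => rw [coeffv_X0_zero]; exact zero_mem _
      | succ d => rw [coeffv_X0_succ]; exact hmono d (hY d)
    · cases d with
      | zero => rw [coeffv_Xs_zero]; exact zero_mem _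
      | succ d => rw [coeffv_Xs_succ]; exact hX d i ⟨_, hY d, rfl⟩

/-- the Rees module of the filtered family `W` -/
def Wstar : Submodule (MvPolynomial (Fin (n + 1)) k) (RE k n r) where
  carrier := {Y | ∀ d, coeffv d Y ∈ W d}
  add_mem' := by
    intro Y Z hY hZ d
    rw [coeffv_add]
    exact add_mem (hY d) (hZ d)
  zero_mem' := by
    intro d
    rw [coeffv_zero]
    exact zero_mem _
  smul_mem' := fun a Y hY => smul_mem_aux W hmono hX a Y hY

theorem mem_Wstar (Y : RE k n r) : Y ∈ Wstar W hmono hX ↔ ∀ d, coeffv d Y ∈ W d := Iff.rfl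

include hmono hX in
theorem lemmaN (hdeg : ∀ d, ∀ w ∈ W d, ∀ j, (w j).totalDegree ≤ d) :
    ∃ D, ∀ d, D ≤ d → W (d + 1) ≤ W d ⊔ ⨆ i, (W d).map (mulX i) := by
  classical
  let Estar : Submodule (MvPolynomial (Fin (n + 1)) k) (RE k n r) :=
    Submodule.span _ (Set.range (fun j : Fin r => (eRE j : RE k n r)))
  haveI : IsNoetherian (MvPolynomial (Fin (n + 1)) k) Estar :=
    isNoetherian_span_of_finite _ (Set.finite_range _)
  have hle : Wstar W hmono hX ≤ Estar := by
    intro Y hY
    have hj : ∀ j, ∃ a, rho k n a = Y j := by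
      intro j
      have h1 := (Y j).as_sum_range_C_mul_X_pow
      have h2 : ∑ i ∈ Finset.range ((Y j).natDegree + 1),
          Polynomial.C ((Y j).coeff i) * Polynomial.X ^ i ∈ (rho k n).range :=
        Subalgebra.sum_mem _ fun d _ =>
          C_mul_X_pow_mem_range k n d _ (hdeg d _ (hY d) j)
      rw [← h1] at h2
      exact (AlgHom.mem_range _).mp h2
    choose a ha using hj
    have h3 : Y = ∑ j, a j • (eRE j : RE k n r) := by
      funext j'
      have h4 : (∑ j, a j • (eRE j : RE k n r)) j' =
          ∑ j, (a j • (eRE j : RE k n r)) j' :=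
        map_sum (evRE j') (fun j => a j • (eRE j : RE k n r)) Finset.univ
      rw [h4, Finset.sum_eq_single j']
      · rw [RE.smul_apply, ha, eRE_same, mul_one]
      · intro j _ hne
        rw [RE.smul_apply, eRE_ne (Ne.symm hne), mul_zero]
      · intro h; exact absurd (Finset.mem_univ j') h
    rw [h3]
    exact Submodule.sum_mem _ fun j _ =>
      Submodule.smul_mem _ _ (Submodule.subset_span ⟨j, rfl⟩)
  have hfg : (Wstar W hmono hX).FG := isNoetherian_submodule.mp inferInstance _ hle
  obtain ⟨G, hG⟩ := hfg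
  let D : ℕ := G.sup (fun Y => Finset.univ.sup fun j => (Y j).natDegree)
  refine ⟨D, fun d hd w hw => ?_⟩
  have hQ : ∀ (a : MvPolynomial (Fin (n + 1)) k) (Y : RE k n r), Y ∈ Wstar W hmono hX →
      coeffv (d + 1) (a • Y) - (constantCoeff a) • coeffv (d + 1) Y ∈
        W d ⊔ ⨆ i, (W d).map (mulX i) := by
    intro a
    induction a using MvPolynomial.induction_on with
    | C c =>
      intro Y hY
      rw [coeffv_C, constantCoeff_C, sub_self]
      exact zero_mem _
    | add p q hp hq =>
      intro Y hY
      have h1 := add_mem (hp Y hY) (hq Y hY)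
      have h2 : coeffv (d + 1) ((p + q) • Y) - constantCoeff (p + q) • coeffv (d + 1) Y =
          (coeffv (d + 1) (p • Y) - constantCoeff p • coeffv (d + 1) Y) +
            (coeffv (d + 1) (q • Y) - constantCoeff q • coeffv (d + 1) Y) := by
        rw [add_smul, coeffv_add, map_add, add_smul]
        abel
      rw [h2]
      exact h1
    | mul_X p l hp =>
      intro Y hY
      have h0 : constantCoeff (p * X l) = 0 := by
        rw [map_mul, constantCoeff_X, mul_zero]
      rw [h0, zero_smul, sub_zero, mul_comm, mul_smul]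
      have hpY : p • Y ∈ Wstar W hmono hX := (Wstar W hmono hX).smul_mem p hY
      rcases Fin.eq_zero_or_eq_succ l with rfl | ⟨i, rfl⟩
      · rw [coeffv_X0_succ]
        exact Submodule.mem_sup_left (hpY d)
      · rw [coeffv_Xs_succ]
        exact Submodule.mem_sup_right (Submodule.mem_iSup_of_mem i ⟨_, hpY d, rfl⟩)
  have hP : ∀ Y ∈ Submodule.span (MvPolynomial (Fin (n + 1)) k) (G : Set (RE k n r)),
      coeffv (d + 1) Y ∈ W d ⊔ ⨆ i, (W d).map (mulX i) := by
    intro Y hY
    induction hY using Submodule.span_induction with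
    | mem Y hYG =>
      have h1 : coeffv (d + 1) Y = 0 := by
        funext j
        apply Polynomial.coeff_eq_zero_of_natDegree_lt
        have h2 : (Y j).natDegree ≤ D :=
          le_trans (Finset.le_sup (f := fun j => (Y j).natDegree) (Finset.mem_univ j))
            (Finset.le_sup (f := fun Y : RE k n r => Finset.univ.sup fun j => (Y j).natDegree)
              hYG)
        omega
      rw [h1]
      exact zero_mem _
    | zero =>
      rw [coeffv_zero]
      exact zero_mem _
    | add Y Z _ _ hY hZ =>
      rw [coeffv_add]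
      exact add_mem hY hZ
    | smul a Y hYs hY =>
      have hYW : Y ∈ Wstar W hmono hX := hG ▸ hYs
      have h1 := hQ a Y hYW
      have h2 : coeffv (d + 1) (a • Y) =
          (coeffv (d + 1) (a • Y) - constantCoeff a • coeffv (d + 1) Y) +
            constantCoeff a • coeffv (d + 1) Y := by abel
      rw [h2]
      exact add_mem h1 (Submodule.smul_mem _ _ hY)
  let Yw : RE k n r := fun j => Polynomial.C (w j) * Polynomial.X ^ (d + 1)
  have hcoeff : ∀ e, coeffv e Yw = if e = d + 1 then w else 0 := by
    intro e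
    funext j
    show (Polynomial.C (w j) * Polynomial.X ^ (d + 1)).coeff e = _
    rw [Polynomial.coeff_C_mul_X_pow]
    split_ifs <;> rfl
  have hYw : Yw ∈ Wstar W hmono hX := by
    intro e
    rw [hcoeff]
    split_ifs with h
    · rw [h]; exact hw
    · exact zero_mem _
  have h5 := hP Yw (hG.symm ▸ hYw)
  rw [hcoeff, if_pos rfl] at h5
  exact h5

end LemmaN

end Groth.Agent.Helper7.ValFP
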