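import Mathlib
import Groth.Agent.Lib.Helper7.ValFP.Rees

set_option linter.style.haveILetI false
set_option linter.unusedVariables false
set_option linter.unusedSectionVars false
set_option autoImplicit false
set_option backward.isDefEq.respectTransparency.types false
set_option synthInstance.maxHeartbeats 400000
set_option maxHeartbeats 1600000

universe u

/-! helper7: a finite module over a polynomial ring over a valuation ring which is flat over the
valuation ring is finitely presented (Rees module + graded Nakayama). -/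

open MvPolynomial

namespace Groth.Agent.Helper7.ValFP

section LemmaP

theorem smul_inf_ker_le {R A B : Type u} [CommRing R] [AddCommGroup A] [Module R A]
    [AddCommGroup B] [Module R B]
    (I : Ideal R) (N : Submodule R A) (g : A →ₗ[R] B) [Module.Projective R ↥(N.map g)]
    (hN : N.FG) :
    (I • N) ⊓ LinearMap.ker g ≤ I • (N ⊓ LinearMap.ker g) ∧ (N ⊓ LinearMap.ker g).FG := by
  let g' : ↥N →ₗ[R] ↥(N.map g) :=
    (g.domRestrict N).codRestrict (N.map g) (fun x => ⟨x, x.2, rfl⟩)
  have hg'val : ∀ x : ↥N, ((g' x : ↥(N.map g)) : B) = g x := fun x => rfl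
  have hg' : Function.Surjective g' := by
    rintro ⟨_, ⟨x, hx, rfl⟩⟩
    exact ⟨⟨x, hx⟩, rfl⟩
  obtain ⟨h, hh⟩ := Module.projective_lifting_property g' LinearMap.id hg'
  let p : ↥N →ₗ[R] A := N.subtype - N.subtype ∘ₗ h ∘ₗ g'
  have hpdef : ∀ x : ↥N, p x = (x : A) - ((h (g' x) : ↥N) : A) := fun x => rfl
  have hpN : ∀ x, p x ∈ N ⊓ LinearMap.ker g := by
    intro x
    refine ⟨?_, ?_⟩
    · rw [hpdef]; exact N.sub_mem x.2 (h (g' x)).2
    · show g (p x) = 0
      rw [hpdef, map_sub, sub_eq_zero]
      have h1 : g' (h (g' x)) = g' x := LinearMap.congr_fun hh (g' x)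
      have h2 := congrArg Subtype.val h1
      rw [hg'val, hg'val] at h2
      exact h2.symm
  have hpx : ∀ x : ↥N, (x : A) ∈ LinearMap.ker g → p x = x := by
    intro x hx
    have hg0 : g' x = 0 := by
      apply Subtype.ext
      rw [hg'val]
      exact LinearMap.mem_ker.mp hx
    rw [hpdef, hg0, map_zero]
    simp
  have hrange : Submodule.map p ⊤ = N ⊓ LinearMap.ker g := by
    apply le_antisymm
    · rintro _ ⟨x, -, rfl⟩
      exact hpN x
    · intro y hy
      exact ⟨⟨y, hy.1⟩, trivial, hpx ⟨y, hy.1⟩ hy.2⟩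
  constructor
  · intro y hy
    obtain ⟨hy1, hy2⟩ := hy
    have h1 : I • N = Submodule.map N.subtype (I • ⊤) := by
      rw [Submodule.map_smul'', Submodule.map_subtype_top]
    rw [h1] at hy1
    obtain ⟨y', hy', rfl⟩ := hy1
    have h2 : p y' = (y' : A) := hpx y' hy2
    have h3 : p y' ∈ Submodule.map p (I • ⊤) := ⟨y', hy', rfl⟩
    rw [Submodule.map_smul'', hrange, h2] at h3
    exact h3
  · rw [← hrange]
    haveI : Module.Finite R ↥N := Module.Finite.iff_fg.mpr hN
    exact (Module.Finite.fg_top).map p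

end LemmaP

section Ele

variable (R : Type u) [CommRing R] (n r : ℕ)

/-- vectors of polynomials of total degree at most `d` -/
noncomputable def Ele (d : ℕ) : Submodule R (Fin r → MvPolynomial (Fin n) R) :=
  Submodule.pi Set.univ (fun _ => restrictTotalDegree (Fin n) R d)

variable {R n r}

theorem mem_Ele {d : ℕ} {y : Fin r → MvPolynomial (Fin n) R} :
    y ∈ Ele R n r d ↔ ∀ j, (y j).totalDegree ≤ d := by
  simp only [Ele, Submodule.mem_pi, Set.mem_univ, forall_true_left, mem_restrictTotalDegree]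

theorem Ele_fg (d : ℕ) : (Ele R n r d).FG :=
  Submodule.fg_pi (fun _ => Module.Finite.iff_fg.mp inferInstance)

theorem Ele_mono {d d' : ℕ} (h : d ≤ d') : Ele R n r d ≤ Ele R n r d' := by
  intro y hy
  rw [mem_Ele] at hy ⊢
  exact fun j => le_trans (hy j) h

theorem X_smul_mem_Ele [Nontrivial R] {d : ℕ} {y : Fin r → MvPolynomial (Fin n) R}
    (hy : y ∈ Ele R n r d) (i : Fin n) :
    (X i : MvPolynomial (Fin n) R) • y ∈ Ele R n r (d + 1) := by
  rw [mem_Ele] at hy ⊢
  intro j
  rw [Pi.smul_apply, smul_eq_mul]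
  refine le_trans (totalDegree_mul _ _) ?_
  rw [totalDegree_X]
  have := hy j
  omega

theorem exists_mem_Ele (y : Fin r → MvPolynomial (Fin n) R) : ∃ d, y ∈ Ele R n r d :=
  ⟨Finset.univ.sup fun j => (y j).totalDegree, mem_Ele.mpr fun j =>
    Finset.le_sup (f := fun j => (y j).totalDegree) (Finset.mem_univ j)⟩

end Ele

section Red

variable {V : Type u} [CommRing V] [IsLocalRing V] {n r : ℕ}

/-- reduction of polynomials modulo the maximal ideal -/
noncomputable def red :
    MvPolynomial (Fin n) V →+* MvPolynomial (Fin n) (IsLocalRing.ResidueField V) :=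
  MvPolynomial.map (IsLocalRing.residue V)

/-- reduction of vectors of polynomials -/
noncomputable def redE (y : Fin r → MvPolynomial (Fin n) V) :
    Fin r → MvPolynomial (Fin n) (IsLocalRing.ResidueField V) :=
  fun j => red (y j)

theorem redE_apply (y : Fin r → MvPolynomial (Fin n) V) (j : Fin r) : redE y j = red (y j) := rfl

theorem redE_add (y z : Fin r → MvPolynomial (Fin n) V) : redE (y + z) = redE y + redE z := by
  funext j
  simp only [redE_apply, Pi.add_apply, map_add]

theorem redE_sub (y z : Fin r → MvPolynomial (Fin n) V) : redE (y - z) = redE y - redE z := by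
  funext j
  simp only [redE_apply, Pi.sub_apply, map_sub]

theorem redE_zero : redE (0 : Fin r → MvPolynomial (Fin n) V) = 0 := by
  funext j
  simp only [redE_apply, Pi.zero_apply, map_zero]

theorem redE_smul (c : V) (y : Fin r → MvPolynomial (Fin n) V) :
    redE (c • y) = IsLocalRing.residue V c • redE y := by
  funext j
  simp only [redE_apply, Pi.smul_apply]
  rw [MvPolynomial.smul_eq_C_mul, map_mul, MvPolynomial.smul_eq_C_mul]
  congr 1
  exact MvPolynomial.map_C _ _

theorem redE_X_smul (i : Fin n) (y : Fin r → MvPolynomial (Fin n) V) :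
    redE ((X i : MvPolynomial (Fin n) V) • y) = mulX i (redE y) := by
  funext j
  simp only [redE_apply, Pi.smul_apply, mulX_apply, smul_eq_mul, map_mul]
  congr 1
  exact MvPolynomial.map_X _ _

/-- reduction of a submodule -/
noncomputable def redSub (A : Submodule V (Fin r → MvPolynomial (Fin n) V)) :
    Submodule (IsLocalRing.ResidueField V)
      (Fin r → MvPolynomial (Fin n) (IsLocalRing.ResidueField V)) where
  carrier := {w | ∃ a ∈ A, redE a = w}
  add_mem' := by
    rintro _ _ ⟨a, ha, rfl⟩ ⟨b, hb, rfl⟩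
    exact ⟨a + b, A.add_mem ha hb, redE_add a b⟩
  zero_mem' := ⟨0, A.zero_mem, redE_zero⟩
  smul_mem' := by
    rintro c _ ⟨a, ha, rfl⟩
    obtain ⟨c', rfl⟩ := IsLocalRing.residue_surjective c
    exact ⟨c' • a, A.smul_mem c' ha, redE_smul c' a⟩

theorem mem_redSub {A : Submodule V (Fin r → MvPolynomial (Fin n) V)}
    {w : Fin r → MvPolynomial (Fin n) (IsLocalRing.ResidueField V)} :
    w ∈ redSub A ↔ ∃ a ∈ A, redE a = w := Iff.rfl

theorem mem_smul_Ele (d : ℕ) (y : Fin r → MvPolynomial (Fin n) V) (hy : y ∈ Ele V n r d)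
    (h0 : redE y = 0) :
    y ∈ (IsLocalRing.maximalIdeal V) • Ele V n r d := by
  classical
  have hy' : y = ∑ j, ∑ α ∈ (y j).support,
      (coeff α (y j)) • (Pi.single j (monomial α (1 : V)) : Fin r → MvPolynomial (Fin n) V) := by
    funext j'
    simp only [Finset.sum_apply, Pi.smul_apply]
    rw [Finset.sum_eq_single j']
    · conv_lhs => rw [← support_sum_monomial_coeff (y j')]
      refine Finset.sum_congr rfl fun α _ => ?_
      rw [Pi.single_eq_same, smul_monomial, smul_eq_mul, mul_one]
    · intro j _ hne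
      refine Finset.sum_eq_zero fun α _ => ?_
      rw [Pi.single_eq_of_ne (Ne.symm hne), smul_zero]
    · intro h; exact absurd (Finset.mem_univ j') h
  rw [hy']
  refine Submodule.sum_mem _ fun j _ => Submodule.sum_mem _ fun α hα =>
    Submodule.smul_mem_smul ?_ ?_
  · have h1 := congrFun h0 j
    have h2 := congrArg (coeff α) h1
    rw [redE_apply, red, coeff_map, Pi.zero_apply, coeff_zero] at h2
    exact (IsLocalRing.residue_eq_zero_iff _).mp h2
  · rw [mem_Ele]
    intro j'
    by_cases h : j' = j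
    · subst h
      rw [Pi.single_eq_same]
      exact le_trans (totalDegree_monomial_le _ _)
        (le_trans (le_totalDegree hα) (mem_Ele.mp hy _))
    · rw [Pi.single_eq_of_ne h, totalDegree_zero]
      exact Nat.zero_le _

end Red

section Main

variable {V : Type u} [CommRing V] [IsDomain V] [ValuationRing V] {n r : ℕ}
  {M : Type u} [AddCommGroup M] [Module (MvPolynomial (Fin n) V) M] [Module V M]
  [IsScalarTower V (MvPolynomial (Fin n) V) M] [Module.Flat V M]
  (π : (Fin r → MvPolynomial (Fin n) V) →ₗ[MvPolynomial (Fin n) V] M)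

theorem ker_fg : (LinearMap.ker π).FG := by
  classical
  let πV : (Fin r → MvPolynomial (Fin n) V) →ₗ[V] M := π.restrictScalars V
  have hπV : ∀ y, πV y = π y := fun y => rfl
  let Kd : ℕ → Submodule V (Fin r → MvPolynomial (Fin n) V) :=
    fun d => Ele V n r d ⊓ LinearMap.ker πV
  have hproj : ∀ d, Module.Projective V ↥((Ele V n r d).map πV) := by
    intro d
    have hfg : ((Ele V n r d).map πV).FG := (Ele_fg d).map πV
    haveI : Module.Finite V ↥((Ele V n r d).map πV) := Module.Finite.iff_fg.mpr hfg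
    haveI : Module.Flat V ↥((Ele V n r d).map πV) := by
      rw [Module.Flat.flat_iff_torsion_eq_bot_of_isBezout, eq_bot_iff]
      rintro ⟨x, hx⟩ hmem
      obtain ⟨⟨a, ha⟩, hax⟩ := (Submodule.mem_torsion_iff _).mp hmem
      have h1 : a • x = 0 := by
        have := congrArg Subtype.val hax
        simpa using this
      have h2 : x = 0 :=
        (Module.Flat.isSMulRegular_of_nonZeroDivisors (M := M) ha) (by simpa using h1)
      rw [Submodule.mem_bot]
      exact Subtype.ext h2
    haveI : Module.Free V ↥((Ele V n r d).map πV) := Module.free_of_flat_of_isLocalRing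
    infer_instance
  have hpure : ∀ d, ∀ y ∈ Kd d, redE y = 0 → y ∈ IsLocalRing.maximalIdeal V • Kd d := by
    intro d y hy h0
    haveI := hproj d
    have h1 := (smul_inf_ker_le (IsLocalRing.maximalIdeal V) (Ele V n r d) πV (Ele_fg d)).1
    exact h1 ⟨mem_smul_Ele d y hy.1 h0, hy.2⟩
  have hKfg : ∀ d, (Kd d).FG := fun d => by
    haveI := hproj d
    exact (smul_inf_ker_le (IsLocalRing.maximalIdeal V) (Ele V n r d) πV (Ele_fg d)).2
  let mulXV : Fin n → ((Fin r → MvPolynomial (Fin n) V) →ₗ[V] (Fin r → MvPolynomial (Fin n) V)) :=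
    fun i => (LinearMap.lsmul (MvPolynomial (Fin n) V) (Fin r → MvPolynomial (Fin n) V)
      (X i)).restrictScalars V
  have hmulXV : ∀ i y, mulXV i y = (X i : MvPolynomial (Fin n) V) • y := fun i y => rfl
  have hKmono' : ∀ {d d'}, d ≤ d' → Kd d ≤ Kd d' := fun h => inf_le_inf_right _ (Ele_mono h)
  have hKmono : ∀ d, Kd d ≤ Kd (d + 1) := fun d => hKmono' (Nat.le_succ d)
  have hKX : ∀ d i, (Kd d).map (mulXV i) ≤ Kd (d + 1) := by
    rintro d i _ ⟨y, hy, rfl⟩
    refine ⟨X_smul_mem_Ele hy.1 i, ?_⟩
    show πV (mulXV i y) = 0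
    rw [hmulXV, hπV, map_smul]
    have : π y = 0 := hy.2
    rw [this, smul_zero]
  let W : ℕ → Submodule (IsLocalRing.ResidueField V)
      (Fin r → MvPolynomial (Fin n) (IsLocalRing.ResidueField V)) := fun d => redSub (Kd d)
  have hWdeg : ∀ d, ∀ w ∈ W d, ∀ j, (w j).totalDegree ≤ d := by
    rintro d _ ⟨a, ha, rfl⟩ j
    have h1 : (red (a j)).totalDegree ≤ (a j).totalDegree :=
      Finset.sup_mono (MvPolynomial.support_map_subset _ _)
    exact le_trans h1 (mem_Ele.mp ha.1 j)
  have hWmono : ∀ d, W d ≤ W (d + 1) := by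
    rintro d _ ⟨a, ha, rfl⟩
    exact ⟨a, hKmono d ha, rfl⟩
  have hWX : ∀ d i, (W d).map (mulX i) ≤ W (d + 1) := by
    rintro d i _ ⟨_, ⟨a, ha, rfl⟩, rfl⟩
    exact ⟨(X i : MvPolynomial (Fin n) V) • a, hKX d i ⟨a, ha, rfl⟩, redE_X_smul i a⟩
  obtain ⟨D, hD⟩ := lemmaN W hWmono hWX hWdeg
  let L : ℕ → Submodule V (Fin r → MvPolynomial (Fin n) V) :=
    fun d => Kd d ⊔ ⨆ i, (Kd d).map (mulXV i)
  have hLK : ∀ d, L d ≤ Kd (d + 1) := fun d => sup_le (hKmono d) (iSup_le fun i => hKX d i)
  have hUL : ∀ d, (W d ⊔ ⨆ i, (W d).map (mulX i)) ≤ redSub (L d) := by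
    intro d
    refine sup_le ?_ (iSup_le fun i => ?_)
    · rintro _ ⟨a, ha, rfl⟩
      exact ⟨a, Submodule.mem_sup_left ha, rfl⟩
    · rintro _ ⟨_, ⟨a, ha, rfl⟩, rfl⟩
      exact ⟨(X i : MvPolynomial (Fin n) V) • a,
        Submodule.mem_sup_right (Submodule.mem_iSup_of_mem i ⟨a, ha, rfl⟩), redE_X_smul i a⟩
  have hstep : ∀ d, D ≤ d → Kd (d + 1) ≤ L d := by
    intro d hd
    apply Submodule.le_of_le_smul_of_le_jacobson_bot (hKfg (d + 1))
      (IsLocalRing.maximalIdeal_le_jacobson ⊥)
    intro y hy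
    have hw : redE y ∈ W (d + 1) := ⟨y, hy, rfl⟩
    obtain ⟨l, hl, hly⟩ := hUL d (hD d hd hw)
    have hyl : y - l ∈ Kd (d + 1) := (Kd (d + 1)).sub_mem hy (hLK d hl)
    have h0 : redE (y - l) = 0 := by rw [redE_sub, hly, sub_self]
    have h1 := hpure (d + 1) (y - l) hyl h0
    have h2 : y = l + (y - l) := by abel
    rw [h2]
    exact Submodule.add_mem_sup hl h1
  let KS : Submodule (MvPolynomial (Fin n) V) (Fin r → MvPolynomial (Fin n) V) :=
    Submodule.span _ (Kd D : Set (Fin r → MvPolynomial (Fin n) V))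
  have hall : ∀ d, ∀ y ∈ Kd d, y ∈ KS := by
    intro d
    induction d with
    | zero =>
      intro y hy
      exact Submodule.subset_span (hKmono' (Nat.zero_le D) hy)
    | succ d ih =>
      intro y hy
      by_cases hd : D ≤ d
      · have h1 := hstep d hd hy
        have hL : L d ≤ KS.restrictScalars V := by
          refine sup_le (fun z hz => ih z hz) (iSup_le fun i => ?_)
          rintro _ ⟨z, hz, rfl⟩
          rw [hmulXV]
          exact KS.smul_mem (X i) (ih z hz)
        exact hL h1
      · exact Submodule.subset_span (hKmono' (by omega : d + 1 ≤ D) hy)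
  have hker : LinearMap.ker π = KS := by
    apply le_antisymm
    · intro y hy
      obtain ⟨d, hd⟩ := exists_mem_Ele y
      exact hall d y ⟨hd, hy⟩
    · rw [Submodule.span_le]
      intro y hy
      exact hy.2
  rw [hker]
  obtain ⟨G, hG⟩ := hKfg D
  refine ⟨G, ?_⟩
  show Submodule.span (MvPolynomial (Fin n) V) (G : Set (Fin r → MvPolynomial (Fin n) V)) =
    Submodule.span (MvPolynomial (Fin n) V) (Kd D : Set (Fin r → MvPolynomial (Fin n) V))
  rw [← hG, Submodule.span_span_of_tower]

theorem finitePresentation_mvPolynomial [Module.Finite (MvPolynomial (Fin n) V) M] :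
    Module.FinitePresentation (MvPolynomial (Fin n) V) M := by
  obtain ⟨r, π, hπ⟩ := Module.Finite.exists_fin' (MvPolynomial (Fin n) V) M
  exact Module.finitePresentation_of_free_of_surjective π hπ (ker_fg π)

end Main

end Groth.Agent.Helper7.ValFP
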