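import Mathlib
import Groth.Agent.Lib.Helper7.ValFP.Poly

set_option linter.style.haveILetI false
set_option linter.unusedVariables false
set_option linter.unusedSectionVars false
set_option autoImplicit false
set_option backward.isDefEq.respectTransparency.types false
set_option synthInstance.maxHeartbeats 400000
set_option maxHeartbeats 1600000

universe u

/-! helper7: finite flat modules over (essentially) finite type algebras over a valuation ring are
finitely presented. -/

open MvPolynomial

namespace Groth.Agent.Helper7.ValFP

theorem isBaseChange_id_of_surjective {P C M : Type u} [CommRing P] [CommRing C] [Algebra P C]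
    (hφ : Function.Surjective (algebraMap P C)) [AddCommGroup M] [Module P M] [Module C M]
    [IsScalarTower P C M] : IsBaseChange C (LinearMap.id : M →ₗ[P] M) := by
  apply IsBaseChange.of_lift_unique
  intro Q _ _ _ _ g
  let g' : M →ₗ[C] Q :=
    { toFun := g
      map_add' := g.map_add
      map_smul' := by
        intro c x
        obtain ⟨p, rfl⟩ := hφ c
        simp only [RingHom.id_apply]
        rw [algebraMap_smul, map_smul, algebraMap_smul] }
  refine ⟨g', ?_, ?_⟩
  · ext x; rfl
  · intro g'' hg''
    ext x
    exact LinearMap.congr_fun hg'' x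

section FT

theorem finitePresentation_of_finiteType (V : Type u) [CommRing V] [IsDomain V] [ValuationRing V]
    {C : Type u} [CommRing C] [Algebra V C] [Algebra.FiniteType V C]
    {M : Type u} [AddCommGroup M] [Module C M] [Module V M] [IsScalarTower V C M]
    [Module.Finite C M] [Module.Flat V M] : Module.FinitePresentation C M := by
  obtain ⟨n, φ, hφ⟩ := Algebra.FiniteType.iff_quotient_mvPolynomial''.mp
    (inferInstance : Algebra.FiniteType V C)
  letI : Algebra (MvPolynomial (Fin n) V) C := φ.toRingHom.toAlgebra
  haveI : IsScalarTower V (MvPolynomial (Fin n) V) C :=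
    IsScalarTower.of_algebraMap_eq (fun r => (φ.commutes r).symm)
  letI : Module (MvPolynomial (Fin n) V) M :=
    Module.compHom M (algebraMap (MvPolynomial (Fin n) V) C)
  haveI : IsScalarTower (MvPolynomial (Fin n) V) C M := IsScalarTower.of_compHom _ _ _
  haveI : IsScalarTower V (MvPolynomial (Fin n) V) M := by
    refine ⟨fun a p x => ?_⟩
    show (algebraMap (MvPolynomial (Fin n) V) C (a • p)) • x =
      a • (algebraMap (MvPolynomial (Fin n) V) C p • x)
    rw [Algebra.smul_def, map_mul, ← IsScalarTower.algebraMap_apply, mul_smul, algebraMap_smul]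
  haveI : Module.Finite (MvPolynomial (Fin n) V) C :=
    Module.Finite.of_surjective (Algebra.linearMap (MvPolynomial (Fin n) V) C) hφ
  haveI : Module.Finite (MvPolynomial (Fin n) V) M := Module.Finite.trans C M
  haveI : Module.FinitePresentation (MvPolynomial (Fin n) V) M :=
    finitePresentation_mvPolynomial
  exact FinitePresentation.of_isBaseChange (LinearMap.id : M →ₗ[MvPolynomial (Fin n) V] M)
    (isBaseChange_id_of_surjective hφ)

end FT

section EFT

theorem finitePresentation_of_essFiniteType (A : Type u) {B M : Type u} [CommRing A] [IsDomain A]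
    [ValuationRing A] [CommRing B]
    [Algebra A B] [Algebra.EssFiniteType A B] [AddCommGroup M] [Module B M] [Module A M]
    [IsScalarTower A B M] [Module.Finite B M] [Module.Flat A M] :
    Module.FinitePresentation B M := by
  classical
  haveI : IsLocalization (Algebra.EssFiniteType.submonoid A B) B :=
    Algebra.EssFiniteType.isLocalization A B
  obtain ⟨G, hG⟩ := (Module.Finite.fg_top : (⊤ : Submodule B M).FG)
  let M₀ : Submodule (Algebra.EssFiniteType.subalgebra A B) M :=
    Submodule.span (Algebra.EssFiniteType.subalgebra A B) (G : Set M)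
  haveI : Module.Finite (Algebra.EssFiniteType.subalgebra A B) ↥M₀ :=
    Module.Finite.iff_fg.mpr ⟨G, rfl⟩
  haveI : Module.Flat A ↥M₀ := by
    rw [Module.Flat.flat_iff_torsion_eq_bot_of_isBezout, eq_bot_iff]
    rintro ⟨x, hx⟩ hmem
    obtain ⟨⟨a, ha⟩, hax⟩ := (Submodule.mem_torsion_iff _).mp hmem
    have h1 : a • x = 0 := by
      have := congrArg Subtype.val hax
      simpa using this
    have h2 : x = 0 :=
      (Module.Flat.isSMulRegular_of_nonZeroDivisors (M := M) ha) (by simpa using h1)
    rw [Submodule.mem_bot]
    exact Subtype.ext h2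
  haveI : Module.FinitePresentation (Algebra.EssFiniteType.subalgebra A B) ↥M₀ :=
    finitePresentation_of_finiteType A
  have hloc : IsLocalizedModule (Algebra.EssFiniteType.submonoid A B) M₀.subtype := by
    refine ⟨?_, ?_, ?_⟩
    · intro t
      obtain ⟨u, hu⟩ : IsUnit (algebraMap (Algebra.EssFiniteType.subalgebra A B) B t) := t.2
      have key : ∀ x : M, (t : Algebra.EssFiniteType.subalgebra A B) • x = (u : B) • x := by
        intro x
        rw [hu]
        rfl
      rw [Module.End.isUnit_iff]
      constructor
      · intro x y hxy
        have h1 : (t : Algebra.EssFiniteType.subalgebra A B) • x =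
            (t : Algebra.EssFiniteType.subalgebra A B) • y := hxy
        rw [key, key] at h1
        have h2 := congrArg (fun z => ((u⁻¹ : Bˣ) : B) • z) h1
        simp only [← mul_smul, Units.inv_mul, one_smul] at h2
        exact h2
      · intro y
        refine ⟨((u⁻¹ : Bˣ) : B) • y, ?_⟩
        show (t : Algebra.EssFiniteType.subalgebra A B) • (((u⁻¹ : Bˣ) : B) • y) = y
        rw [key, ← mul_smul, Units.mul_inv, one_smul]
    · intro y
      have hy : y ∈ Submodule.span B (G : Set M) := by rw [hG]; trivial
      suffices h : ∃ t : Algebra.EssFiniteType.submonoid A B,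
          (t : Algebra.EssFiniteType.subalgebra A B) • y ∈ M₀ by
        obtain ⟨t, ht⟩ := h
        exact ⟨⟨⟨_, ht⟩, t⟩, rfl⟩
      induction hy using Submodule.span_induction with
      | mem y hyG => exact ⟨1, by rw [OneMemClass.coe_one, one_smul]; exact Submodule.subset_span hyG⟩
      | zero => exact ⟨1, by rw [smul_zero]; exact zero_mem _⟩
      | add y z _ _ hy hz =>
        obtain ⟨t₁, h₁⟩ := hy
        obtain ⟨t₂, h₂⟩ := hz
        refine ⟨t₁ * t₂, ?_⟩
        rw [Submonoid.coe_mul, smul_add]
        refine add_mem ?_ ?_
        · rw [mul_comm, mul_smul]; exact M₀.smul_mem _ h₁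
        · rw [mul_smul]; exact M₀.smul_mem _ h₂
      | smul b y _ hy =>
        obtain ⟨t, ht⟩ := hy
        obtain ⟨⟨c, s⟩, hcs⟩ := IsLocalization.surj (Algebra.EssFiniteType.submonoid A B) b
        refine ⟨s * t, ?_⟩
        have h1 : ((s * t : Algebra.EssFiniteType.submonoid A B) :
            Algebra.EssFiniteType.subalgebra A B) • (b • y) =
            c • ((t : Algebra.EssFiniteType.subalgebra A B) • y) := by
          rw [Submonoid.coe_mul]
          show ((((s : Algebra.EssFiniteType.subalgebra A B) *
            (t : Algebra.EssFiniteType.subalgebra A B) :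
              Algebra.EssFiniteType.subalgebra A B) : B)) • (b • y) =
            (c : B) • (((t : Algebra.EssFiniteType.subalgebra A B) : B) • y)
          have h2 : b * ((s : Algebra.EssFiniteType.subalgebra A B) : B) = (c : B) := hcs
          rw [← h2, ← mul_smul, ← mul_smul]
          congr 1
          push_cast
          ring
        rw [h1]
        exact M₀.smul_mem _ ht
    · intro x₁ x₂ h
      exact ⟨1, by rw [one_smul, one_smul]; exact Subtype.ext h⟩
  haveI := hloc
  have hbc : IsBaseChange B M₀.subtype :=
    (isLocalizedModule_iff_isBaseChange (Algebra.EssFiniteType.submonoid A B) B M₀.subtype).mp hloc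
  exact FinitePresentation.of_isBaseChange M₀.subtype hbc

end EFT

end Groth.Agent.Helper7.ValFP
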