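import Mathlib
import Groth.Agent.Lib.Helper7.FPLoc.Main
import Groth.Agent.Lib.Helper7.ValFP.Main

set_option linter.style.haveILetI false
set_option linter.unusedVariables false
set_option linter.unusedSectionVars false
set_option autoImplicit false
set_option backward.isDefEq.respectTransparency.types false
set_option synthInstance.maxHeartbeats 400000
set_option maxHeartbeats 1600000

universe u

/-! helper7: finitely presented algebras over a Prüfer domain are coherent rings. -/

namespace Groth.Agent.Helper7.ValFP

open MvPolynomial

section Prufer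

variable {R : Type u} [CommRing R] [IsDomain R]

theorem prufer_ideal_finitePresentation
    (hR : ∀ (p : Ideal R) [p.IsPrime], ValuationRing (Localization.AtPrime p))
    {P : Type u} [CommRing P] [Algebra R P] [Algebra.FinitePresentation R P]
    [Module.Flat R P] (J : Ideal P) (hJ : J.FG) :
    Module.FinitePresentation P ↥J := by
  classical
  haveI : Module.Finite P ↥J := Module.Finite.iff_fg.mpr hJ
  haveI : Module.Flat R ↥J := by
    rw [Module.Flat.flat_iff_torsion_eq_bot_of_valuationRing_localization_isMaximal
      (fun Q _ => hR Q), eq_bot_iff]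
    rintro ⟨x, hx⟩ hmem
    obtain ⟨⟨a, ha⟩, hax⟩ := (Submodule.mem_torsion_iff _).mp hmem
    have h1 : a • x = 0 := by
      have := congrArg Subtype.val hax
      simpa using this
    have h2 : x = 0 :=
      (Module.Flat.isSMulRegular_of_nonZeroDivisors (M := P) ha) (by simpa using h1)
    rw [Submodule.mem_bot]
    exact Subtype.ext h2
  haveI hbp : (⊥ : Ideal R).IsPrime := Ideal.isPrime_bot
  let s : Finset (PrimeSpectrum R) := {⟨⊥, hbp⟩}
  have hs : Function.Injective fun r : R => fun p : s =>
      algebraMap R (Localization.AtPrime p.1.asIdeal) r := by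
    intro a b hab
    have h1 := congrFun hab ⟨⟨⊥, hbp⟩, Finset.mem_singleton_self _⟩
    have hle : (⊥ : Ideal R).primeCompl ≤ nonZeroDivisors R := by
      intro x hx
      exact mem_nonZeroDivisors_of_ne_zero (fun h => hx (by rw [h]; exact Ideal.zero_mem _))
    exact IsLocalization.injective (Localization.AtPrime (⊥ : Ideal R)) hle h1
  refine FPLoc.main (R := R) (S := P) (M := ↥J) s hs ?_
  intro p _
  haveI : ValuationRing (Localization.AtPrime p) := hR p
  haveI : Algebra.IsPushout R (Localization.AtPrime p) P
      (Localization (Algebra.algebraMapSubmonoid P p.primeCompl)) :=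
    (Algebra.isPushout_of_isLocalization p.primeCompl (Localization.AtPrime p) P
      (Localization (Algebra.algebraMapSubmonoid P p.primeCompl))).symm
  haveI : Algebra.FinitePresentation (Localization.AtPrime p)
      (Localization (Algebra.algebraMapSubmonoid P p.primeCompl)) :=
    Algebra.FinitePresentation.equiv (Algebra.IsPushout.equiv R (Localization.AtPrime p) P
      (Localization (Algebra.algebraMapSubmonoid P p.primeCompl)))
  letI : Module (Localization.AtPrime p)
      (LocalizedModule (Algebra.algebraMapSubmonoid P p.primeCompl) ↥J) :=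
    Module.compHom _ (algebraMap (Localization.AtPrime p)
      (Localization (Algebra.algebraMapSubmonoid P p.primeCompl)))
  haveI : IsScalarTower (Localization.AtPrime p)
      (Localization (Algebra.algebraMapSubmonoid P p.primeCompl))
      (LocalizedModule (Algebra.algebraMapSubmonoid P p.primeCompl) ↥J) :=
    IsScalarTower.of_compHom _ _ _
  haveI : IsScalarTower R (Localization.AtPrime p)
      (LocalizedModule (Algebra.algebraMapSubmonoid P p.primeCompl) ↥J) := by
    refine ⟨fun r v x => ?_⟩
    show (algebraMap (Localization.AtPrime p)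
      (Localization (Algebra.algebraMapSubmonoid P p.primeCompl)) (r • v)) • x =
      r • (algebraMap (Localization.AtPrime p)
      (Localization (Algebra.algebraMapSubmonoid P p.primeCompl)) v • x)
    rw [Algebra.smul_def, map_mul, ← IsScalarTower.algebraMap_apply, mul_smul, algebraMap_smul]
  haveI : IsLocalizedModule p.primeCompl
      ((LocalizedModule.mkLinearMap (Algebra.algebraMapSubmonoid P p.primeCompl)
        ↥J).restrictScalars R) :=
    IsLocalizedModule.restrictScalars p.primeCompl
      (LocalizedModule.mkLinearMap (Algebra.algebraMapSubmonoid P p.primeCompl) ↥J)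
  haveI : Module.Flat (Localization.AtPrime p)
      (LocalizedModule (Algebra.algebraMapSubmonoid P p.primeCompl) ↥J) :=
    Module.Flat.of_isLocalizedModule (R := R) (M := ↥J) (Localization.AtPrime p) p.primeCompl
      ((LocalizedModule.mkLinearMap (Algebra.algebraMapSubmonoid P p.primeCompl)
        ↥J).restrictScalars R)
  exact finitePresentation_of_finiteType (Localization.AtPrime p)

theorem prufer_coherent
    (hR : ∀ (p : Ideal R) [p.IsPrime], ValuationRing (Localization.AtPrime p))
    (A : Type u) [CommRing A] [Algebra R A] [Algebra.FinitePresentation R A]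
    (I : Ideal A) (hI : I.FG) : Module.FinitePresentation A ↥I := by
  classical
  obtain ⟨n, φ, hφ, hker⟩ := Algebra.FinitePresentation.out (R := R) (A := A)
  letI : Algebra (MvPolynomial (Fin n) R) A := φ.toRingHom.toAlgebra
  haveI : IsScalarTower R (MvPolynomial (Fin n) R) A :=
    IsScalarTower.of_algebraMap_eq (fun r => (φ.commutes r).symm)
  have hφ' : Function.Surjective (algebraMap (MvPolynomial (Fin n) R) A) := hφ
  have hkerfg : (RingHom.ker (algebraMap (MvPolynomial (Fin n) R) A)).FG := hker
  let It : Ideal (MvPolynomial (Fin n) R) := I.comap (algebraMap (MvPolynomial (Fin n) R) A)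
  have hKle : RingHom.ker (algebraMap (MvPolynomial (Fin n) R) A) ≤ It := by
    intro x hx
    show algebraMap (MvPolynomial (Fin n) R) A x ∈ I
    rw [(RingHom.mem_ker).mp hx]
    exact I.zero_mem
  have hItfg : It.FG := by
    obtain ⟨G, hG⟩ := hI
    choose lift hlift using fun a : A => hφ' a
    have hset : (algebraMap (MvPolynomial (Fin n) R) A) ''
        ((G.image lift : Finset _) : Set (MvPolynomial (Fin n) R)) = (G : Set A) := by
      ext a
      simp only [Finset.coe_image, Set.mem_image, Finset.mem_coe]
      constructor
      · rintro ⟨_, ⟨g, hg, rfl⟩, rfl⟩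
        rw [hlift]; exact hg
      · intro ha
        exact ⟨lift a, ⟨a, ha, rfl⟩, hlift a⟩
    have hmap : (Ideal.span ((G.image lift : Finset _) : Set (MvPolynomial (Fin n) R))).map
        (algebraMap (MvPolynomial (Fin n) R) A) = I := by
      rw [Ideal.map_span, hset]; exact hG
    have hIt : It = Ideal.span ((G.image lift : Finset _) : Set (MvPolynomial (Fin n) R)) ⊔
        RingHom.ker (algebraMap (MvPolynomial (Fin n) R) A) := by
      show I.comap _ = _
      rw [← hmap, Ideal.comap_map_of_surjective _ hφ', RingHom.ker_eq_comap_bot]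
    rw [hIt]
    exact Submodule.FG.sup ⟨G.image lift, rfl⟩ hkerfg
  haveI : Module.FinitePresentation (MvPolynomial (Fin n) R) ↥It :=
    prufer_ideal_finitePresentation hR It hItfg
  let ψ : ↥It →ₗ[MvPolynomial (Fin n) R] ↥I :=
    { toFun := fun x => ⟨algebraMap (MvPolynomial (Fin n) R) A x.1, x.2⟩
      map_add' := fun x y => Subtype.ext (map_add _ _ _)
      map_smul' := fun c x => Subtype.ext (by
        show algebraMap (MvPolynomial (Fin n) R) A (c * x.1) =
          c • algebraMap (MvPolynomial (Fin n) R) A x.1
        rw [map_mul, Algebra.smul_def]) }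
  have hψ : Function.Surjective ψ := by
    rintro ⟨y, hy⟩
    obtain ⟨x, hx⟩ := hφ' y
    exact ⟨⟨x, by show algebraMap _ A x ∈ I; rw [hx]; exact hy⟩, Subtype.ext hx⟩
  have hkerψ : LinearMap.ker ψ = LinearMap.range (Submodule.inclusion hKle) := by
    ext x
    constructor
    · intro hx
      have h0 : algebraMap (MvPolynomial (Fin n) R) A x.1 = 0 :=
        congrArg Subtype.val (LinearMap.mem_ker.mp hx)
      exact ⟨⟨x.1, h0⟩, Subtype.ext rfl⟩
    · rintro ⟨y, rfl⟩
      show ψ _ = 0
      exact Subtype.ext y.2
  have hfgker : (LinearMap.ker ψ).FG := by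
    rw [hkerψ, LinearMap.range_eq_map]
    haveI : Module.Finite (MvPolynomial (Fin n) R)
        ↥(RingHom.ker (algebraMap (MvPolynomial (Fin n) R) A)) :=
      Module.Finite.iff_fg.mpr hkerfg
    exact Submodule.FG.map _ Module.Finite.fg_top
  haveI : Module.FinitePresentation (MvPolynomial (Fin n) R) ↥I :=
    Module.finitePresentation_of_surjective ψ hψ hfgker
  exact FinitePresentation.of_isBaseChange (LinearMap.id : ↥I →ₗ[MvPolynomial (Fin n) R] ↥I)
    (isBaseChange_id_of_surjective hφ')

end Prufer

end Groth.Agent.Helper7.ValFP
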